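import Groth.Agent.Lib.Stein.FieldCase
import Mathlib.AlgebraicGeometry.Morphisms.QuasiFinite

/-!
# Universal injectivity of the finite part of a Stein factorisation

If the geometric fibres of `t ≫ h` are preconnected, `t` is surjective and `h` is finite, then
`h` is universally injective. The geometric fibres of `a ≫ b` are preconnected when `a` is
geometrically connected and `b` is universally injective.
-/

set_option autoImplicit false
set_option linter.style.haveILetI false
set_option backward.isDefEq.respectTransparency.types false

universe u

open CategoryTheory CategoryTheory.Limits AlgebraicGeometry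

namespace GrothLib.UnivInjSections20

variable {X N S : Scheme.{u}}

theorem preconnectedSpace_pullback (a : X ⟶ N) (b : N ⟶ S) [GeometricallyConnected a]
    [UniversallyInjective b] (K : Type u) [Field K] (y : Spec (CommRingCat.of K) ⟶ S) :
    PreconnectedSpace ↥(pullback (a ≫ b) y) := by
  haveI : UniversallyInjective (pullback.snd b y) :=
    MorphismProperty.pullback_snd _ _ inferInstance
  haveI : Subsingleton ↥(pullback b y) := (pullback.snd b y).injective.subsingleton
  let φ := (pullbackRightPullbackFstIso b y a).hom
  rcases isEmpty_or_nonempty ↥(pullback b y) with hB | hB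
  · haveI : IsEmpty ↥(pullback a (pullback.fst b y)) :=
      Function.isEmpty (pullback.snd a (pullback.fst b y))
    haveI : IsEmpty ↥(pullback (a ≫ b) y) :=
      Function.isEmpty (pullbackRightPullbackFstIso b y a).inv
    exact ⟨Set.subsingleton_of_subsingleton.isPreconnected⟩
  · haveI : ConnectedSpace ↥(pullback a (pullback.fst b y)) :=
      GeometricallyConnected.connectedSpace_of_subsingleton (pullback.snd a (pullback.fst b y))
    haveI : ConnectedSpace ↥(pullback (a ≫ b) y) :=
      φ.homeomorph.surjective.connectedSpace φ.continuous
    infer_instance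

theorem universallyInjective_of_preconnectedSpace (t : X ⟶ N) (h : N ⟶ S) [Surjective t]
    [IsFinite h]
    (H : ∀ (K : Type u) [Field K] (y : Spec (CommRingCat.of K) ⟶ S),
      PreconnectedSpace ↥(pullback (t ≫ h) y)) :
    UniversallyInjective h := by
  have key : ∀ (K : Type u) [Field K] (y : Spec (CommRingCat.of K) ⟶ S),
      Subsingleton ↥(pullback h y) := by
    intro K _ y
    haveI := H K y
    haveI : IsFinite (pullback.snd h y) := MorphismProperty.pullback_snd _ _ inferInstance
    haveI : IsLocallyArtinian (Spec (CommRingCat.of K)) := inferInstance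
    haveI : IsLocallyArtinian (pullback h y) :=
      IsLocallyArtinian.of_locallyQuasiFinite (pullback.snd h y)
    haveI : DiscreteTopology ↥(pullback h y) := IsLocallyArtinian.discreteTopology
    haveI : Surjective (pullback.snd t (pullback.fst h y)) :=
      MorphismProperty.pullback_snd _ _ inferInstance
    let q : pullback (t ≫ h) y ⟶ pullback h y :=
      (pullbackRightPullbackFstIso h y t).inv ≫ pullback.snd t (pullback.fst h y)
    have hq : Function.Surjective q := by
      have h1 : Surjective q := inferInstance
      exact h1.1
    have hpre : _root_.IsPreconnected (Set.range q) := isPreconnected_range q.continuous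
    rw [hq.range_eq] at hpre
    exact Set.subsingleton_univ_iff.1 hpre.subsingleton
  refine ⟨fun N' S' i₁ i₂ f' hpb z₁ z₂ e => ?_⟩
  have hp := (IsPullback.of_hasPullback f' (S'.fromSpecResidueField (f' z₁))).paste_horiz hpb.flip
  let ε := hp.isoPullback
  haveI : Subsingleton ↥(f'.fiber (f' z₁)) :=
    @Function.Injective.subsingleton _ _ _ (show Function.Injective ε.hom from ε.hom.homeomorph.injective)
      (key _ (S'.fromSpecResidueField (f' z₁) ≫ i₂))
  have m1 : z₁ ∈ Set.range (f'.fiberι (f' z₁)) := by rw [f'.range_fiberι]; rfl
  have m2 : z₂ ∈ Set.range (f'.fiberι (f' z₁)) := by rw [f'.range_fiberι]; exact e.symm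
  obtain ⟨w₁, hw₁⟩ := m1
  obtain ⟨w₂, hw₂⟩ := m2
  rw [← hw₁, ← hw₂, Subsingleton.elim w₁ w₂]

end GrothLib.UnivInjSections20
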